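import Mathlib
import Cfsg.Prelude.Def_Characters

/-!
# (VAN) of S3670 (helper54): pigeonhole for vanishing characters
-/

set_option autoImplicit false

namespace Cfsg.Agent.Helper87.U33

open Cfsg

universe u

/-- (VAN) if at most `m` irreducible characters are nonzero at `g`, there are at least `m + 5`
irreducible characters, and `S` has at most `5` members one of which is nonzero at `g`, then some
irreducible character outside `S` vanishes at `g`. -/
theorem VAN_exists {G : Type u} [Group G] [Fintype G] (g : G) (m : ℕ)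
    (hm : Nat.card {χ : IrrCharacter G // (χ : G → ℂ) g ≠ 0} ≤ m)
    (hk : m + 5 ≤ Nat.card (IrrCharacter G)) (S : Set (IrrCharacter G)) (hS : S.ncard ≤ 5)
    (h1 : ∃ χ ∈ S, (χ : G → ℂ) g ≠ 0) :
    ∃ χ : IrrCharacter G, χ ∉ S ∧ (χ : G → ℂ) g = 0 := by
  classical
  have hfin : Finite (IrrCharacter G) := Nat.finite_of_card_ne_zero (by omega)
  by_contra hcon
  push Not at hcon
  obtain ⟨χ0, hχ0S, hχ0⟩ := h1
  let Z : Set (IrrCharacter G) := {χ | (χ : G → ℂ) g = 0}
  have hZS : Z ⊆ S \ {χ0} := by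
    intro χ hχ
    refine ⟨?_, ?_⟩
    · by_contra hn
      exact hcon χ hn hχ
    · intro h
      rw [Set.mem_singleton_iff] at h
      rw [h] at hχ
      exact hχ0 hχ
  have h2 : Z.ncard ≤ (S \ {χ0}).ncard := Set.ncard_le_ncard hZS (Set.toFinite _)
  have h3 : (S \ {χ0}).ncard = S.ncard - 1 := Set.ncard_sdiff_singleton_of_mem hχ0S
  have hSpos : 0 < S.ncard := (Set.ncard_pos (Set.toFinite S)).mpr ⟨χ0, hχ0S⟩
  have h4 : Z.ncard + Zᶜ.ncard = Nat.card (IrrCharacter G) := Set.ncard_add_ncard_compl Z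
  have h5 : Zᶜ.ncard = Nat.card {χ : IrrCharacter G // (χ : G → ℂ) g ≠ 0} := by
    rw [← Nat.card_coe_set_eq]
    rfl
  omega

end Cfsg.Agent.Helper87.U33
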