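import Mathlib

/-!
# (WP) of S3670 (helper54): `HasInd` is multiplicative for direct products
-/

set_option autoImplicit false

namespace Cfsg.Agent.Helper87.U33

/-- `H` has a normal subgroup `A` of index `n` and a linear character of `A` whose inertia group
is `A` (every element outside `A` moves it).  (Verbatim copy of helper54's `HasInd`.) -/
def HasInd (H : Type) [Group H] (n : ℕ) : Prop :=
  ∃ (A : Subgroup H) (hA : A.Normal) (lam : A →* ℂ), A.index = n ∧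
    ∀ h : H, h ∉ A → ∃ a : A, lam ⟨h * a * h⁻¹, hA.conj_mem a a.2 h⟩ ≠ lam a

/-- (WP) products: `A₁ × A₂ ⊴ H₁ × H₂`, `lam (a₁, a₂) = lam₁ a₁ * lam₂ a₂`. -/
theorem WP_prod {H₁ H₂ : Type} [Group H₁] [Group H₂] (n₁ n₂ : ℕ) (h₁ : HasInd H₁ n₁)
    (h₂ : HasInd H₂ n₂) : HasInd (H₁ × H₂) (n₁ * n₂) := by
  obtain ⟨A₁, hA₁, lam₁, hi₁, hm₁⟩ := h₁
  obtain ⟨A₂, hA₂, lam₂, hi₂, hm₂⟩ := h₂
  have hN : (A₁.prod A₂).Normal := Subgroup.prod_normal A₁ A₂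
  let lam : ↥(A₁.prod A₂) →* ℂ :=
    (MonoidHom.coprod lam₁ lam₂).comp (Subgroup.prodEquiv A₁ A₂).toMonoidHom
  have hlam : ∀ (x : H₁ × H₂) (hx : x ∈ A₁.prod A₂),
      lam ⟨x, hx⟩ = lam₁ ⟨x.1, (Subgroup.mem_prod.mp hx).1⟩ * lam₂ ⟨x.2, (Subgroup.mem_prod.mp hx).2⟩ := by
    intro x hx
    rfl
  refine ⟨A₁.prod A₂, hN, lam, ?_, ?_⟩
  · rw [Subgroup.index_prod, hi₁, hi₂]
  · rintro ⟨x₁, x₂⟩ hx
    rw [Subgroup.mem_prod, not_and_or] at hx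
    rcases hx with hx | hx
    · obtain ⟨a, ha⟩ := hm₁ x₁ hx
      refine ⟨⟨(a.1, 1), Subgroup.mem_prod.mpr ⟨a.2, A₂.one_mem⟩⟩, ?_⟩
      rw [hlam, hlam]
      have e1 : (⟨((x₁, x₂) * ((a : H₁), (1 : H₂)) * (x₁, x₂)⁻¹).2, (Subgroup.mem_prod.mp
          (hN.conj_mem ((a : H₁), (1 : H₂)) (Subgroup.mem_prod.mpr ⟨a.2, A₂.one_mem⟩) (x₁, x₂))).2⟩ : A₂) = 1 := by
        apply Subtype.ext
        change x₂ * 1 * x₂⁻¹ = 1
        group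
      have e2 : (⟨((a : H₁), (1 : H₂)).2, A₂.one_mem⟩ : A₂) = 1 := rfl
      rw [e1, map_one, mul_one]
      change _ ≠ lam₁ ⟨a.1, _⟩ * lam₂ ⟨1, _⟩
      rw [e2, map_one, mul_one]
      exact ha
    · obtain ⟨a, ha⟩ := hm₂ x₂ hx
      refine ⟨⟨(1, a.1), Subgroup.mem_prod.mpr ⟨A₁.one_mem, a.2⟩⟩, ?_⟩
      rw [hlam, hlam]
      have e1 : (⟨((x₁, x₂) * ((1 : H₁), (a : H₂)) * (x₁, x₂)⁻¹).1, (Subgroup.mem_prod.mp
          (hN.conj_mem ((1 : H₁), (a : H₂)) (Subgroup.mem_prod.mpr ⟨A₁.one_mem, a.2⟩) (x₁, x₂))).1⟩ : A₁) = 1 := by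
        apply Subtype.ext
        change x₁ * 1 * x₁⁻¹ = 1
        group
      have e2 : (⟨((1 : H₁), (a : H₂)).1, A₁.one_mem⟩ : A₁) = 1 := rfl
      rw [e1, map_one, one_mul]
      change _ ≠ lam₁ ⟨1, _⟩ * lam₂ ⟨a.1, _⟩
      rw [e2, map_one, one_mul]
      exact ha

end Cfsg.Agent.Helper87.U33
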