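import Mathlib
import Cfsg.Agent.Helper87.U33.WP

/-!
# The holomorph-like group `R ⋊ Rˣ` of a finite commutative ring with a primitive additive character

For S3670 (helper54), pieces (WK) (`R = ZMod 9`) and (WF) (`R = GF(8)`): the group
`Multiplicative R ⋊ Rˣ` is solvable of order `|R| |Rˣ|`, and `A = R` is a normal subgroup of index
`|Rˣ|` with a linear character (a primitive additive character of `R`) moved by every element
outside `A`.
-/

set_option autoImplicit false

namespace Cfsg.Agent.Helper87.U33

open Multiplicative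

variable (R : Type) [CommRing R]

/-- multiplication by a unit as an automorphism of `Multiplicative R` -/
def holAut (u : Rˣ) : MulAut (Multiplicative R) where
  toFun x := ofAdd ((u : R) * x.toAdd)
  invFun x := ofAdd (((u⁻¹ : Rˣ) : R) * x.toAdd)
  left_inv x := by
    change ofAdd (((u⁻¹ : Rˣ) : R) * ((u : R) * x.toAdd)) = x
    rw [← mul_assoc, Units.inv_mul, one_mul]; rfl
  right_inv x := by
    change ofAdd ((u : R) * (((u⁻¹ : Rˣ) : R) * x.toAdd)) = x
    rw [← mul_assoc, Units.mul_inv, one_mul]; rfl
  map_mul' x y := by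
    change ofAdd ((u : R) * (x.toAdd + y.toAdd)) = ofAdd ((u : R) * x.toAdd) * ofAdd ((u : R) * y.toAdd)
    rw [mul_add]; rfl

/-- the action of `Rˣ` on `Multiplicative R` -/
def holAct : Rˣ →* MulAut (Multiplicative R) where
  toFun := holAut R
  map_one' := by
    ext x
    change ofAdd (((1 : Rˣ) : R) * x.toAdd) = x
    rw [Units.val_one, one_mul]; rfl
  map_mul' u v := by
    ext x
    change ofAdd (((u * v : Rˣ) : R) * x.toAdd) = ofAdd ((u : R) * ((v : R) * x.toAdd))
    rw [Units.val_mul, mul_assoc]

theorem holAct_apply (u : Rˣ) (x : Multiplicative R) :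
    holAct R u x = ofAdd ((u : R) * x.toAdd) := rfl

/-- the group `R ⋊ Rˣ` -/
abbrev Hol : Type := Multiplicative R ⋊[holAct R] Rˣ

instance [Finite R] : Finite (Hol R) := Finite.of_equiv _ SemidirectProduct.equivProd.symm

theorem card_Hol [Finite R] : Nat.card (Hol R) = Nat.card R * Nat.card Rˣ := by
  rw [SemidirectProduct.card]
  rfl

theorem isSolvable_Hol : Group.IsSolvable (Hol R) :=
  Group.isSolvable_of_ker_le_range (SemidirectProduct.inl : Multiplicative R →* Hol R)
    (SemidirectProduct.rightHom : Hol R →* Rˣ)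
    (le_of_eq SemidirectProduct.range_inl_eq_ker_rightHom.symm)

/-- the normal subgroup `A = R` -/
def holA : Subgroup (Hol R) := (SemidirectProduct.rightHom : Hol R →* Rˣ).ker

theorem mem_holA (h : Hol R) : h ∈ holA R ↔ h.right = 1 := by
  unfold holA
  rw [MonoidHom.mem_ker, SemidirectProduct.rightHom_eq_right]

theorem holA_normal : (holA R).Normal := MonoidHom.normal_ker _

theorem index_holA [Finite R] : (holA R).index = Nat.card Rˣ := by
  unfold holA
  rw [Subgroup.index_ker, MonoidHom.range_eq_top.mpr SemidirectProduct.rightHom_surjective,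
    Subgroup.card_top]

/-- the linear character of `A` attached to an additive character of `R` -/
noncomputable def holLam (ψ : AddChar R ℂ) : holA R →* ℂ where
  toFun a := ψ (a.1.left.toAdd)
  map_one' := by
    change ψ ((1 : Hol R).left.toAdd) = 1
    rw [SemidirectProduct.one_left, toAdd_one, AddChar.map_zero_eq_one]
  map_mul' a b := by
    change ψ ((a.1 * b.1).left.toAdd) = ψ (a.1.left.toAdd) * ψ (b.1.left.toAdd)
    have ha : a.1.right = 1 := (mem_holA R a.1).mp a.2
    rw [SemidirectProduct.mul_left, ha, map_one, MulAut.one_apply, toAdd_mul,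
      AddChar.map_add_eq_mul]

theorem holLam_apply (ψ : AddChar R ℂ) (a : holA R) : holLam R ψ a = ψ (a.1.left.toAdd) := rfl

theorem conj_left (h : Hol R) (x : Multiplicative R) :
    (h * SemidirectProduct.inl x * h⁻¹).left = ofAdd ((h.right : R) * x.toAdd) := by
  rw [SemidirectProduct.mul_left, SemidirectProduct.mul_left, SemidirectProduct.mul_right,
    SemidirectProduct.inv_left, SemidirectProduct.right_inl, mul_one, SemidirectProduct.left_inl]
  rw [← MulAut.mul_apply, ← map_mul, mul_inv_cancel, map_one, MulAut.one_apply]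
  rw [mul_right_comm, mul_inv_cancel, one_mul, holAct_apply]

/-- the main statement -/
theorem hasInd_Hol [Finite R] (ψ : AddChar R ℂ) (hψ : ψ.IsPrimitive) :
    HasInd (Hol R) (Nat.card Rˣ) := by
  refine ⟨holA R, holA_normal R, holLam R ψ, index_holA R, ?_⟩
  intro h hh
  rw [mem_holA] at hh
  -- `u = h.right ≠ 1`
  have hne : ((h.right : Rˣ) : R) - 1 ≠ 0 := by
    intro h0
    apply hh
    apply Units.ext
    rw [Units.val_one]
    exact sub_eq_zero.mp h0
  have h1 := hψ hne
  obtain ⟨x, hx⟩ : ∃ x : R, ψ ((((h.right : Rˣ) : R) - 1) * x) ≠ 1 := by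
    by_contra hcon
    push Not at hcon
    apply h1
    ext y
    rw [AddChar.mulShift_apply, hcon y, AddChar.one_apply]
  have hxA : (SemidirectProduct.inl (ofAdd x) : Hol R) ∈ holA R := by
    rw [mem_holA, SemidirectProduct.right_inl]
  refine ⟨⟨SemidirectProduct.inl (ofAdd x), hxA⟩, ?_⟩
  rw [holLam_apply, holLam_apply]
  change ψ ((h * SemidirectProduct.inl (ofAdd x) * h⁻¹).left.toAdd) ≠
    ψ ((SemidirectProduct.inl (ofAdd x) : Hol R).left.toAdd)
  rw [conj_left, SemidirectProduct.left_inl, toAdd_ofAdd, toAdd_ofAdd]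
  intro heq
  apply hx
  have e : ((h.right : Rˣ) : R) * x = (((h.right : Rˣ) : R) - 1) * x + x := by ring
  rw [e, AddChar.map_add_eq_mul] at heq
  have hunit : ψ x ≠ 0 := by
    intro h0
    have := AddChar.map_add_eq_mul ψ x (-x)
    rw [add_neg_cancel, AddChar.map_zero_eq_one, h0, zero_mul] at this
    exact one_ne_zero this
  exact mul_right_cancel₀ hunit (heq.trans (one_mul _).symm)

end Cfsg.Agent.Helper87.U33
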