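import Mathlib
import Cfsg.Agent.Helper87.U33.WP
import Cfsg.Agent.Helper87.U33.Hol

/-!
# (WF) of S3670 (helper54), alternative: the Frobenius group `2^3 : 7` as `GF(8) ⋊ GF(8)ˣ`
-/

set_option autoImplicit false

namespace Cfsg.Agent.Helper87.U33


theorem finite_gf8 : Finite (GaloisField 2 3) :=
  Nat.finite_of_card_ne_zero (by rw [GaloisField.card 2 3 (by norm_num)]; norm_num)

theorem card_gf8 : Nat.card (GaloisField 2 3) = 8 := by
  rw [GaloisField.card 2 3 (by norm_num)]; norm_num

theorem card_units_gf8 : Nat.card (GaloisField 2 3)ˣ = 7 := by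
  have := finite_gf8
  have h := Nat.card_units (GaloisField 2 3)
  rw [h, card_gf8]

/-- (WF), alternative model -/
theorem WF_frob56 : ∃ (F : Type) (_ : Group F) (_ : Fintype F), Group.IsSolvable F ∧
    Nat.card F = 56 ∧ HasInd F 7 := by
  have := finite_gf8
  refine ⟨Hol (GaloisField 2 3), inferInstance, Fintype.ofFinite _,
    isSolvable_Hol (GaloisField 2 3), ?_, ?_⟩
  · rw [card_Hol, card_units_gf8, card_gf8]
  · have h := hasInd_Hol (GaloisField 2 3)
      (AddChar.FiniteField.primitiveChar_to_Complex (GaloisField 2 3))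
      (AddChar.FiniteField.primitiveChar_to_Complex_isPrimitive (GaloisField 2 3))
    rw [card_units_gf8] at h
    exact h

end Cfsg.Agent.Helper87.U33
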