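import Mathlib
import Cfsg.Agent.Helper87.U33.WP
import Cfsg.Agent.Helper87.U33.Hol

/-!
# (WK) of S3670 (helper54): a solvable group of order 54 with an induced irreducible character of degree 6

Model: the holomorph `ZMod 9 ⋊ (ZMod 9)ˣ`.
-/

set_option autoImplicit false

namespace Cfsg.Agent.Helper87.U33

theorem card_units_zmod9 : Nat.card (ZMod 9)ˣ = 6 := by
  rw [Nat.card_eq_fintype_card, ZMod.card_units_eq_totient]
  decide

/-- (WK) -/
theorem WK_group54 : ∃ (K : Type) (_ : Group K) (_ : Fintype K), Group.IsSolvable K ∧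
    Nat.card K = 54 ∧ HasInd K 6 := by
  refine ⟨Hol (ZMod 9), inferInstance, Fintype.ofFinite _, isSolvable_Hol (ZMod 9), ?_, ?_⟩
  · rw [card_Hol, card_units_zmod9, Nat.card_eq_fintype_card, ZMod.card]
  · have h := hasInd_Hol (ZMod 9) (ZMod.stdAddChar (N := 9)) (ZMod.isPrimitive_stdAddChar 9)
    rw [card_units_zmod9] at h
    exact h

end Cfsg.Agent.Helper87.U33
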